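import Cfsg.Agent.H607.TW.Defs
import Cfsg.Agent.Lib.Cores
import Cfsg.Agent.Lib.LocalCore

/-!
# S3694, task T11 (helper947): the group theory of the torus normaliser case

* `le_of_norm` : a proper subgroup of `N` normalised by `A` lies in `A`;
* `TD N A T` : `T` is a cyclic normal subgroup of `A`, and `A ∩ N` is dihedral over `T`;
* `abs_false` : the contradiction, for `T` of exponent not dividing `4`.
-/

set_option autoImplicit false
set_option linter.unusedSectionVars false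

namespace Cfsg.Agent.H947.TW

open Subgroup Cfsg.Agent.H607.TW

universe u

section Basic

variable {G : Type u} [Group G] {N A C : Subgroup G} {r : ℕ}

theorem norm_of_forall [Finite G] {X : Subgroup G} {a : G} (h : ∀ x ∈ X, a * x * a⁻¹ ∈ X) : a ∈ normalizer (X : Set G) := by
  rw [Subgroup.mem_normalizer_iff_map_conj_eq]
  refine Subgroup.eq_of_le_of_card_ge ?_ (le_of_eq (Subgroup.card_map_of_injective
    (K := X) (MulAut.conj a).injective).symm)
  rintro _ ⟨x, hx, rfl⟩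
  exact h x hx

theorem norm_mem {X : Subgroup G} {a x : G} (h : a ∈ normalizer (X : Set G)) (hx : x ∈ X) : a * x * a⁻¹ ∈ X :=
  (mem_normalizer_iff.1 h x).1 hx

/-- normal subgroups of `G` inside `N` -/
theorem eq_bot_or (hN : IsSimpleGroup N) {X : Subgroup G} (hX : X ≤ N) (hXn : X.Normal) : X = ⊥ ∨ X = N := by
  have h1 : (X.subgroupOf N).Normal := inferInstance
  rcases h1.eq_bot_or_eq_top with h2 | h2
  · left
    rw [Subgroup.subgroupOf_eq_bot] at h2
    rw [eq_bot_iff]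
    exact fun x hx => h2.le_bot ⟨hx, hX hx⟩
  · right
    rw [Subgroup.subgroupOf_eq_top] at h2
    exact le_antisymm hX h2

theorem le_of_norm (h : Loc N A r) {X : Subgroup G} (hX : X ≤ N) (hne : X ≠ N) (hA : A ≤ normalizer (X : Set G)) :
    X ≤ A := by
  by_contra hcon
  have h1 : A < A ⊔ X := lt_of_le_of_ne le_sup_left (fun h2 => hcon (h2 ▸ le_sup_right))
  have h2 : A ⊔ X = ⊤ := h.max.2 _ h1
  have h3 : normalizer (X : Set G) = ⊤ := by
    rw [eq_top_iff, ← h2]
    exact sup_le hA le_normalizer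
  have h4 : X.Normal := normalizer_eq_top_iff.1 h3
  rcases eq_bot_or h.simple hX h4 with h5 | h5
  · exact hcon (h5 ▸ bot_le)
  · exact hne h5

theorem eq_bot_of_norm (h : Loc N A r) (hC : IsCoatom C) (hAC : A ≠ C) {X : Subgroup G} (hX : X ≤ N) (hne : X ≠ N)
    (h1 : A ≤ normalizer (X : Set G)) (h2 : C ≤ normalizer (X : Set G)) : X = ⊥ := by
  have h3 : A ⊔ C = ⊤ := by
    rcases eq_or_lt_of_le (le_sup_left : A ≤ A ⊔ C) with h4 | h4
    · exfalso
      have h5 : C ≤ A := h4 ▸ le_sup_right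
      rcases eq_or_lt_of_le h5 with h6 | h6
      · exact hAC h6.symm
      · exact h.max.1 (hC.2 _ h6)
    · exact h.max.2 _ h4
  have h4 : X.Normal := normalizer_eq_top_iff.1 (by
    rw [eq_top_iff, ← h3]
    exact sup_le h1 h2)
  rcases eq_bot_or h.simple hX h4 with h5 | h5
  · exact h5
  · exact absurd h5 hne

/-- abelian subgroups are not `N` -/
theorem ne_of_comm (h : Loc N A r) {X : Subgroup G} (hX : ∀ x ∈ X, ∀ y ∈ X, x * y = y * x) : X ≠ N := by
  rintro rfl
  exact h.nonab ⟨⟨fun a b => Subtype.ext (hX a a.2 b b.2)⟩⟩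

end Basic

/-- `T` is a cyclic normal subgroup of `A`, and `A ∩ N` is dihedral over `T` -/
structure TD {G : Type u} [Group G] (N A T : Subgroup G) : Prop where
  leA : T ≤ A
  leN : T ≤ N
  cyc : IsCyclic T
  norm : ∀ a ∈ A, ∀ t ∈ T, a * t * a⁻¹ ∈ T
  out : ∀ h ∈ A, h ∈ N → h ∉ T → h * h = 1 ∧ ∀ t ∈ T, h * t * h⁻¹ = t⁻¹

section TD

variable {G : Type u} [Group G] {N A T : Subgroup G}

theorem TD.comm (h : TD N A T) : ∀ x ∈ T, ∀ y ∈ T, x * y = y * x := by
  intro x hx y hy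
  have := h.cyc.isMulCommutative
  exact congrArg Subtype.val (this.is_comm.comm (⟨x, hx⟩ : T) ⟨y, hy⟩)

theorem TD.conj (h : TD N A T) (hN : N.Normal) (g : G) :
    TD N (A.map (MulAut.conj g).toMonoidHom) (T.map (MulAut.conj g).toMonoidHom) := by
  have hc : ∀ x : G, (MulAut.conj g).toMonoidHom x = g * x * g⁻¹ := fun x => rfl
  refine ⟨map_mono h.leA, ?_, ?_, ?_, ?_⟩
  · rintro _ ⟨t, ht, rfl⟩
    rw [hc]
    exact hN.conj_mem t (h.leN ht) g
  · have := h.cyc
    exact isCyclic_of_surjective ((MulAut.conj g).toMonoidHom.subgroupMap T)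
      ((MulAut.conj g).toMonoidHom.subgroupMap_surjective T)
  · rintro _ ⟨a, ha, rfl⟩ _ ⟨t, ht, rfl⟩
    exact ⟨a * t * a⁻¹, h.norm a ha t ht, by rw [map_mul, map_mul, map_inv]⟩
  · rintro _ ⟨a, ha, rfl⟩ haN haT
    have haN' : a ∈ N := by
      have := hN.conj_mem _ haN g⁻¹
      rw [hc] at this
      have e : g⁻¹ * (g * a * g⁻¹) * g⁻¹⁻¹ = a := by group
      rwa [e] at this
    have haT' : a ∉ T := fun h1 => haT ⟨a, h1, rfl⟩
    obtain ⟨h1, h2⟩ := h.out a ha haN' haT'
    refine ⟨by rw [← map_mul, h1, map_one], ?_⟩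
    rintro _ ⟨t, ht, rfl⟩
    rw [← map_inv, ← map_mul, ← map_mul, h2 t ht, map_inv]

/-- elements of order `n` of a cyclic group -/
theorem TD.mem_zpowers [Finite G] (h : TD N A T) {a b : G} (ha : a ∈ T) (hb : b ∈ T) {n : ℕ} (han : a ^ n = 1)
    (hbn : orderOf b = n) : a ∈ zpowers b := by
  classical
  have hn : 0 < n := by rw [← hbn]; exact orderOf_pos b
  have := h.cyc
  have hfin : Finite T := inferInstance
  have : Fintype T := Fintype.ofFinite T
  by_contra hcon
  have h1 := IsCyclic.card_pow_eq_one_le (α := T) hn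
  set b' : T := ⟨b, hb⟩ with hb'
  set a' : T := ⟨a, ha⟩ with ha'
  have hbn' : orderOf b' = n := by rw [hb', Subgroup.orderOf_mk]; exact hbn
  have hcon' : a' ∉ zpowers b' := by
    intro h2
    apply hcon
    obtain ⟨k, hk⟩ := mem_zpowers_iff.1 h2
    refine mem_zpowers_iff.2 ⟨k, ?_⟩
    have := congrArg Subtype.val hk
    simpa using this
  have h2 : insert a' (Finset.univ.filter fun c : T => c ∈ zpowers b') ⊆ Finset.univ.filter fun c : T => c ^ n = 1 := by
    intro c hc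
    rw [Finset.mem_filter]
    refine ⟨Finset.mem_univ _, ?_⟩
    rcases Finset.mem_insert.1 hc with rfl | hc
    · exact Subtype.ext han
    · obtain ⟨k, rfl⟩ := mem_zpowers_iff.1 (Finset.mem_filter.1 hc).2
      rw [← zpow_natCast, ← zpow_mul, mul_comm, zpow_mul, zpow_natCast, ← hbn', pow_orderOf_eq_one, one_zpow]
  have h3 := Finset.card_le_card h2
  rw [Finset.card_insert_of_notMem (by simpa using hcon')] at h3
  have h4 : (Finset.univ.filter fun c : T => c ∈ zpowers b').card = n := by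
    rw [← hbn', ← Nat.card_zpowers, Nat.card_eq_fintype_card, Fintype.card_subtype]
  omega

/-- the cyclic subgroup generated by an element of `T` is normal in `A` -/
theorem TD.norm_zpowers [Finite G] (h : TD N A T) {y : G} (hy : y ∈ T) : A ≤ normalizer (zpowers y : Set G) := by
  intro a ha
  apply norm_of_forall
  intro x hx
  obtain ⟨k, rfl⟩ := mem_zpowers_iff.1 hx
  have h1 : a * y * a⁻¹ ∈ zpowers y := by
    refine h.mem_zpowers (h.norm a ha y hy) hy (n := orderOf y) ?_ rfl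
    rw [conj_pow, pow_orderOf_eq_one, mul_one, mul_inv_cancel]
  have h2 : a * y ^ k * a⁻¹ = (a * y * a⁻¹) ^ k := conj_zpow.symm
  rw [h2]
  exact zpow_mem h1 k

end TD

section Main

theorem pow4 {G : Type*} [Group G] (s : G) : s ^ 4 = (s * s) * (s * s) := by
  rw [← pow_two, ← pow_two, ← pow_mul]

variable {G : Type u} [Group G] [Finite G] {N A C A₁ C₁ A₂ C₂ T : Subgroup G} {r d : ℕ}

/-- **The contradiction.** -/
theorem abs_false (h : Sit N A C A₁ C₁ A₂ C₂ r d) (hT : TD N A T) (hTr : IsPGroup r T) (hbig : ∃ t ∈ T, t ^ 4 ≠ 1)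
    (hF : ∀ x ∈ A₂, x ^ r = 1 → (∀ t ∈ T, x * t = t * x) → x ∈ N) : False := by
  have hrp : Fact r.Prime := ⟨h.locA.prime⟩
  have hN := h.locA.normal
  obtain ⟨g, hg⟩ := h.conj
  set TC := T.map (MulAut.conj g).toMonoidHom with hTC
  have hTDC : TD N C TC := by rw [hg]; exact hT.conj hN g
  have hTCr : IsPGroup r TC := hTr.map _
  have hA2r : IsPGroup r A₂ := (Cfsg.Agent.Lib.LocalCore.isPGroup_map_pCore r C).to_le h.A₂_OO
  have hA2A : A₂ ≤ A := h.A₂_le.trans (inf_le_left.trans (h.A₁_le.trans inf_le_left))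
  have hA2C : A₂ ≤ C := h.A₂_le.trans (inf_le_left.trans (h.A₁_le.trans inf_le_right))
  -- `A₂ ∩ N ≠ 1`
  have hA2N : A₂ ⊓ N ≠ ⊥ := by
    intro h0
    have hdvd : r ∣ Nat.card A₂ := by
      obtain ⟨k, hk⟩ := IsPGroup.iff_card.1 hA2r
      rw [hk]
      refine dvd_pow_self r ?_
      rintro rfl
      rw [pow_zero, card_eq_one] at hk
      exact h.A₂_ne hk
    obtain ⟨x, hx⟩ := exists_prime_orderOf_dvd_card' r hdvd
    have hxr : (x : G) ^ r = 1 := by
      have : x ^ r = 1 := by rw [← hx]; exact pow_orderOf_eq_one x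
      exact congrArg Subtype.val this
    have hcomm : ∀ t ∈ T, (x : G) * t = t * x := by
      intro t ht
      have h1 : (x : G) * t * (x : G)⁻¹ * t⁻¹ ∈ A₂ ⊓ N := by
        refine ⟨?_, ?_⟩
        · have h2 : t * (x : G)⁻¹ * t⁻¹ ∈ A₂ := norm_mem (h.A₂_norm (hT.leA ht)) (A₂.inv_mem x.2)
          have e : (x : G) * t * (x : G)⁻¹ * t⁻¹ = x * (t * (x : G)⁻¹ * t⁻¹) := by group
          rw [e]
          exact A₂.mul_mem x.2 h2
        · exact N.mul_mem (hN.conj_mem t (hT.leN ht) x) (N.inv_mem (hT.leN ht))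
      rw [h0, mem_bot] at h1
      calc (x : G) * t = ((x : G) * t * (x : G)⁻¹ * t⁻¹) * (t * x) := by group
        _ = t * x := by rw [h1, one_mul]
    have hxN := hF x x.2 hxr hcomm
    have h2 : (x : G) ∈ A₂ ⊓ N := ⟨x.2, hxN⟩
    rw [h0, mem_bot] at h2
    have h3 : x = 1 := Subtype.ext h2
    rw [h3, orderOf_one] at hx
    exact hrp.out.one_lt.ne hx
  obtain ⟨y, hy, hy1⟩ : ∃ y ∈ A₂ ⊓ N, y ≠ 1 := by
    by_contra hcon
    push Not at hcon
    exact hA2N ((Subgroup.eq_bot_iff_forall _).2 hcon)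
  -- an element of order `r` normalised by both
  have key : ∀ z : G, z ∈ T → z ∈ TC → z ≠ 1 → False := by
    intro z hz hzC hz1
    have h1 := eq_bot_of_norm h.locA h.locC.max h.ne (X := zpowers z) (by rw [zpowers_le]; exact hT.leN hz)
      (ne_of_comm h.locA (by
        rintro a ⟨i, rfl⟩ b ⟨j, rfl⟩
        exact (Commute.refl z).zpow_zpow i j)) (hT.norm_zpowers hz) (hTDC.norm_zpowers hzC)
    exact hz1 (by rwa [zpowers_eq_bot] at h1)
  by_cases hr2 : r = 2
  · subst hr2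
    -- the involution of `T`
    obtain ⟨t0, ht0, ht04⟩ := hbig
    have hord : ∀ t ∈ T, t ≠ 1 → ∃ k : ℕ, orderOf (t ^ k) = 2 := by
      intro t ht ht1
      obtain ⟨k, hk⟩ := hTr ⟨t, ht⟩
      have hk' : t ^ 2 ^ k = 1 := congrArg Subtype.val hk
      obtain ⟨j, -, hj⟩ := (Nat.dvd_prime_pow Nat.prime_two).1 (orderOf_dvd_of_pow_eq_one hk')
      have hj0 : j ≠ 0 := by
        rintro rfl
        rw [pow_zero, orderOf_eq_one_iff] at hj
        exact ht1 hj
      obtain ⟨i, rfl⟩ := Nat.exists_eq_succ_of_ne_zero hj0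
      refine ⟨2 ^ i, ?_⟩
      rw [orderOf_pow_of_dvd (by positivity) (by rw [hj]; exact pow_dvd_pow 2 (Nat.le_succ i)), hj, Nat.succ_eq_add_one,
        pow_succ]
      exact Nat.mul_div_cancel_left 2 (by positivity)
    have ht01 : t0 ≠ 1 := by rintro rfl; exact ht04 (one_pow 4)
    obtain ⟨k0, hk0⟩ := hord t0 ht0 ht01
    obtain ⟨z, hz⟩ : ∃ z, t0 ^ k0 = z := ⟨_, rfl⟩
    rw [hz] at hk0
    have hzT : z ∈ T := by rw [← hz]; exact T.pow_mem ht0 k0
    have hz1 : z ≠ 1 := by rintro rfl; rw [orderOf_one] at hk0; omega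
    have hzz : z * z = 1 := by rw [← sq, ← hk0]; exact pow_orderOf_eq_one z
    have huniq : ∀ w ∈ T, orderOf w = 2 → w = z := by
      intro w hw hw2
      have h1 := hT.mem_zpowers hw hzT (n := 2) (by rw [← hw2]; exact pow_orderOf_eq_one w) hk0
      obtain ⟨k, rfl⟩ := mem_zpowers_iff.1 h1
      rcases Int.even_or_odd k with hk | hk
      · exfalso
        obtain ⟨i, rfl⟩ := hk
        rw [← two_mul, zpow_mul, zpow_ofNat, sq, hzz, one_zpow, orderOf_one] at hw2
        omega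
      · obtain ⟨i, rfl⟩ := hk
        rw [zpow_add, zpow_mul, zpow_ofNat, sq, hzz, one_zpow, one_mul, zpow_one]
    have hpowz : ∀ t ∈ T, t ≠ 1 → t ∈ A₂ → z ∈ A₂ := by
      intro t ht ht1 htA
      obtain ⟨k, hk⟩ := hord t ht ht1
      rw [← huniq _ (T.pow_mem ht k) hk]
      exact A₂.pow_mem htA k
    have hzA2 : z ∈ A₂ := by
      by_cases hyT : y ∈ T
      · exact hpowz y hyT hy1 hy.1
      · obtain ⟨-, h2⟩ := hT.out y (hA2A hy.1) hy.2 hyT
        have h3 : t0 * t0 ∈ A₂ := by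
          have h4 : t0 * y * t0⁻¹ ∈ A₂ := norm_mem (h.A₂_norm (hT.leA ht0)) hy.1
          have h5 : y * t0⁻¹ * y⁻¹ = t0 := by
            have := h2 t0⁻¹ (T.inv_mem ht0)
            rwa [inv_inv] at this
          have e : t0 * t0 = (t0 * y * t0⁻¹) * y⁻¹ := by
            calc t0 * t0 = t0 * (y * t0⁻¹ * y⁻¹) := by rw [h5]
              _ = (t0 * y * t0⁻¹) * y⁻¹ := by group
          rw [e]
          exact A₂.mul_mem h4 (A₂.inv_mem hy.1)
        refine hpowz (t0 * t0) (T.mul_mem ht0 ht0) (fun h4 => ht04 ?_) h3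
        calc t0 ^ 4 = (t0 * t0) * (t0 * t0) := pow4 t0
          _ = 1 := by rw [h4, one_mul]
    have hzcent : ∀ a ∈ A, a * z = z * a := by
      intro a ha
      have h1 := huniq (a * z * a⁻¹) (hT.norm a ha z hzT) (by
        rw [← hk0]
        exact orderOf_injective (MulAut.conj a).toMonoidHom (MulAut.conj a).injective z)
      calc a * z = (a * z * a⁻¹) * a := by group
        _ = z * a := by rw [h1]
    have hzC1 : ∀ c ∈ C, c * z * c⁻¹ ∈ A := by
      intro c hc
      have h1 : c * z * c⁻¹ ∈ C₁ := norm_mem (h.C₁_norm hc) (h.A₂_le hzA2).2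
      exact (h.C₁_le h1).1
    by_cases hzTC : z ∈ TC
    · exact key z hzT hzTC hz1
    · obtain ⟨-, h2⟩ := hTDC.out z (hA2C hzA2) (hT.leN hzT) hzTC
      -- a big element of `TC`
      have hs0 : g * t0 * g⁻¹ ∈ TC := ⟨t0, ht0, rfl⟩
      obtain ⟨s, hs⟩ : ∃ s, g * t0 * g⁻¹ = s := ⟨_, rfl⟩
      rw [hs] at hs0
      have hs4 : s ^ 4 ≠ 1 := by
        intro h3
        apply ht04
        rw [← hs, conj_pow] at h3
        calc t0 ^ 4 = g⁻¹ * (g * t0 ^ 4 * g⁻¹) * g := by group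
          _ = 1 := by rw [h3]; group
      apply hs4
      have h3 := hzcent _ (hzC1 s (hTDC.leA hs0))
      have h4 := h2 s hs0
      have hzi : z⁻¹ = z := inv_eq_of_mul_eq_one_left hzz
      rw [hzi] at h4
      -- `z s = s⁻¹ z`
      have h5 : z * s = s⁻¹ * z := by
        calc z * s = (z * s * z) * z := by rw [mul_assoc (z * s), hzz, mul_one]
          _ = s⁻¹ * z := by rw [h4]
      have h6 : z * s⁻¹ = s * z := by
        have h7 := h2 s⁻¹ (TC.inv_mem hs0)
        rw [hzi, inv_inv] at h7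
        calc z * s⁻¹ = (z * s⁻¹ * z) * z := by rw [mul_assoc (z * s⁻¹), hzz, mul_one]
          _ = s * z := by rw [h7]
      have h7 : s * z * s⁻¹ * z = s * s := by
        calc s * z * s⁻¹ * z = s * (z * s⁻¹) * z := by group
          _ = s * s * (z * z) := by rw [h6]; group
          _ = s * s := by rw [hzz, mul_one]
      have h8 : z * (s * z * s⁻¹) = s⁻¹ * s⁻¹ := by
        calc z * (s * z * s⁻¹) = (z * s) * z * s⁻¹ := by group
          _ = s⁻¹ * (z * z) * s⁻¹ := by rw [h5]; group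
          _ = s⁻¹ * s⁻¹ := by rw [hzz, mul_one]
      rw [h7, h8] at h3
      calc s ^ 4 = (s * s) * (s * s) := pow4 s
        _ = (s⁻¹ * s⁻¹) * (s * s) := by rw [← h3]
        _ = 1 := by group
  · -- `r` odd
    have hodd : ∀ w : G, (∃ k : ℕ, w ^ r ^ k = 1) → w * w = 1 → w = 1 := by
      rintro w ⟨k, hk⟩ hw
      have h1 : orderOf w ∣ r ^ k := orderOf_dvd_of_pow_eq_one hk
      have h2 : orderOf w ∣ 2 := orderOf_dvd_of_pow_eq_one (by rw [sq, hw])
      have h3 : Nat.Coprime (r ^ k) 2 := Nat.Coprime.pow_left k ((Nat.coprime_primes hrp.out Nat.prime_two).2 hr2)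
      have h4 : orderOf w ∣ 1 := h3 ▸ Nat.dvd_gcd h1 h2
      exact orderOf_eq_one_iff.1 (Nat.dvd_one.1 h4)
    have hyr : ∃ k : ℕ, y ^ r ^ k = 1 := by
      obtain ⟨k, hk⟩ := hA2r ⟨y, hy.1⟩
      exact ⟨k, congrArg Subtype.val hk⟩
    have hyT : y ∈ T := by
      by_contra hcon
      exact hy1 (hodd y hyr (hT.out y (hA2A hy.1) hy.2 hcon).1)
    have hyC : y ∈ TC := by
      by_contra hcon
      exact hy1 (hodd y hyr (hTDC.out y (hA2C hy.1) hy.2 hcon).1)
    exact key y hyT hyC hy1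

end Main

end Cfsg.Agent.H947.TW
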