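import Cfsg.Agent.H947.TW.Mat

/-!
# S3694, task T11 (helper947): the torus `E ∩ SL₂(F)`

`E` is a commutative subalgebra of `M₂(F)`, `E ≠ F`, without unipotent elements `≠ 1`.
* `exists_dom` : `E ∩ SL₂(F)` embeds into a field, in particular it is cyclic;
* `card_HE` : it has at least `q - 1` elements;
* `out_aux` : the elements of `SL₂(F)` normalising `E`.
-/

set_option autoImplicit false
set_option linter.unusedSectionVars false

namespace Cfsg.Agent.H947.TW

open Subgroup Cfsg.Agent.H607.TW Matrix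

universe u

section Alg

variable {F : Type} [Field F]

local notation "M2" => Matrix (Fin 2) (Fin 2) F
local notation "S2" => Matrix.SpecialLinearGroup (Fin 2) F

/-- the elements of `SL₂` in `E` -/
def HE (E : Subalgebra F M2) : Subgroup S2 where
  carrier := {s | (s : M2) ∈ E}
  one_mem' := by
    change ((1 : S2) : M2) ∈ E
    rw [Matrix.SpecialLinearGroup.coe_one]
    exact E.one_mem
  mul_mem' := by
    intro a b ha hb
    change ((a * b : S2) : M2) ∈ E
    rw [Matrix.SpecialLinearGroup.coe_mul]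
    exact E.mul_mem ha hb
  inv_mem' := by
    intro a ha
    change ((a⁻¹ : S2) : M2) ∈ E
    rw [Matrix.SpecialLinearGroup.coe_inv, adj_eq]
    exact E.sub_mem (E.smul_mem E.one_mem _) ha

theorem mem_HE {E : Subalgebra F M2} {s : S2} : s ∈ HE E ↔ (s : M2) ∈ E := Iff.rfl

theorem exists_nonscalar {E : Subalgebra F M2} (h1 : E ≠ ⊥) : ∃ X ∈ E, ¬ Sc X := by
  by_contra hcon
  push Not at hcon
  apply h1
  rw [eq_bot_iff]
  intro x hx
  obtain ⟨c, hc⟩ := hcon x hx
  rw [hc, Algebra.mem_bot]
  exact ⟨c, by rw [Algebra.algebraMap_eq_smul_one]⟩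

theorem mem_of_comm {E : Subalgebra F M2} {X y : M2} (hX : X ∈ E) (hs : ¬ Sc X) (h : y * X = X * y) : y ∈ E := by
  obtain ⟨a, b, rfl⟩ := span_of_comm hs h
  exact E.add_mem (E.smul_mem E.one_mem _) (E.smul_mem hX _)

theorem adj_mem {E : Subalgebra F M2} {x : M2} (hx : x ∈ E) : x.adjugate ∈ E := by
  rw [adj_eq]
  exact E.sub_mem (E.smul_mem E.one_mem _) hx

theorem ch1 (s : S2) : (s : M2) * s = (s : M2).trace • (s : M2) - 1 := by
  have := ch (s : M2)
  rw [s.2, one_smul] at this
  exact this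

/-- `E ∩ SL₂(F)` embeds into a field -/
theorem exists_dom {E : Subalgebra F M2} (hcomm : ∀ x ∈ E, ∀ y ∈ E, x * y = y * x)
    (hun : ∀ e ∈ HE E, ((e : M2) - 1) * ((e : M2) - 1) = 0 → e = 1) :
    ∃ (D : Type) (_ : Field D) (f : F →+* D) (φ : ↥(HE E) →* D), Function.Injective φ ∧
      ∀ s : ↥(HE E), φ s * φ s + 1 = f (((s : S2) : M2).trace) * φ s := by
  let _ : CommRing E := { (inferInstance : Ring E) with mul_comm := fun x y => Subtype.ext (hcomm x x.2 y y.2) }
  obtain ⟨m, hm⟩ := Ideal.exists_maximal E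
  let _ : Field (E ⧸ m) := Ideal.Quotient.field m
  let φ : ↥(HE E) →* E ⧸ m :=
    { toFun := fun s => Ideal.Quotient.mk m ⟨((s : S2) : M2), s.2⟩
      map_one' := by
        rw [← map_one (Ideal.Quotient.mk m)]
        congr 1
      map_mul' := fun a b => by
        rw [← map_mul]
        congr 1 }
  have hφ : ∀ s : ↥(HE E), φ s = Ideal.Quotient.mk m ⟨((s : S2) : M2), s.2⟩ := fun s => rfl
  refine ⟨E ⧸ m, inferInstance, (Ideal.Quotient.mk m).comp (algebraMap F E), φ, ?_, ?_⟩
  · rw [injective_iff_map_eq_one]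
    intro s hs
    rw [hφ, ← map_one (Ideal.Quotient.mk m), Ideal.Quotient.eq] at hs
    set w : E := ⟨((s : S2) : M2), s.2⟩ - 1 with hw
    have hwc : (w : M2) = ((s : S2) : M2) - 1 := rfl
    have hd : (w : M2).det = 0 := by
      by_contra hd
      apply hm.ne_top
      rw [Ideal.eq_top_iff_one]
      have h1 : (w * ⟨(w : M2).det⁻¹ • (w : M2).adjugate, E.smul_mem (adj_mem w.2) _⟩ : E) = 1 := by
        apply Subtype.ext
        change (w : M2) * ((w : M2).det⁻¹ • (w : M2).adjugate) = 1
        rw [mul_smul_comm, Matrix.mul_adjugate, smul_smul, inv_mul_cancel₀ hd, one_smul]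
      rw [← h1]
      exact m.mul_mem_right _ hs
    apply Subtype.ext
    apply hun _ s.2
    have htr : (w : M2).trace = 0 := by
      rw [hwc] at hd ⊢
      have h2 := (s : S2).2
      rw [Matrix.det_fin_two] at h2 hd
      rw [Matrix.trace_fin_two]
      simp only [Matrix.sub_apply, Matrix.one_apply_eq, ne_eq, zero_ne_one, not_false_eq_true, Matrix.one_apply_ne, sub_zero,
        one_ne_zero] at hd ⊢
      linear_combination h2 - hd
    rw [← hwc, ch, htr, hd, zero_smul, zero_smul, sub_zero]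
  · intro s
    rw [hφ, RingHom.comp_apply, ← map_one (Ideal.Quotient.mk m), ← map_mul, ← map_mul, ← map_add]
    congr 1
    apply Subtype.ext
    change ((s : S2) : M2) * ((s : S2) : M2) + 1 = algebraMap F M2 _ * ((s : S2) : M2)
    rw [ch1, sub_add_cancel, Algebra.algebraMap_eq_smul_one, smul_mul_assoc, one_mul]

theorem cyclic_HE [Finite F] {E : Subalgebra F M2} (hcomm : ∀ x ∈ E, ∀ y ∈ E, x * y = y * x)
    (hun : ∀ e ∈ HE E, ((e : M2) - 1) * ((e : M2) - 1) = 0 → e = 1) : IsCyclic ↥(HE E) := by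
  obtain ⟨D, hD, f, φ, hφ, -⟩ := exists_dom hcomm hun
  exact isCyclic_of_injective_ringHom φ hφ

/-- at most two elements with a given trace -/
theorem card_trace_le [Fintype F] [DecidableEq F] {E : Subalgebra F M2} (hcomm : ∀ x ∈ E, ∀ y ∈ E, x * y = y * x)
    (hun : ∀ e ∈ HE E, ((e : M2) - 1) * ((e : M2) - 1) = 0 → e = 1) (S : Finset ↥(HE E)) (K : Finset F)
    (hS : ∀ s ∈ S, ((s : S2) : M2).trace ∈ K) : S.card ≤ 2 * K.card := by
  classical
  obtain ⟨D, hD, f, φ, hφ, h2⟩ := exists_dom hcomm hun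
  refine (Finset.card_le_mul_card_image_of_maps_to (f := fun s : ↥(HE E) => ((s : S2) : M2).trace) hS 2 ?_)
  intro c hc
  by_contra hcon
  push Not at hcon
  obtain ⟨a, b, d, ha, hb, hd, hab, had, hbd⟩ := Finset.two_lt_card_iff.1 hcon
  rw [Finset.mem_filter] at ha hb hd
  have ea := h2 a
  have eb := h2 b
  have ed := h2 d
  rw [ha.2] at ea
  rw [hb.2] at eb
  rw [hd.2] at ed
  have nab : φ a - φ b ≠ 0 := fun h => hab (hφ (sub_eq_zero.1 h))
  have nad : φ a - φ d ≠ 0 := fun h => had (hφ (sub_eq_zero.1 h))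
  have nbd : φ b - φ d ≠ 0 := fun h => hbd (hφ (sub_eq_zero.1 h))
  have h3 : φ a + φ b - f c = 0 := by
    have : (φ a - φ b) * (φ a + φ b - f c) = 0 := by linear_combination ea - eb
    exact (mul_eq_zero.1 this).resolve_left nab
  have h4 : φ a + φ d - f c = 0 := by
    have : (φ a - φ d) * (φ a + φ d - f c) = 0 := by linear_combination ea - ed
    exact (mul_eq_zero.1 this).resolve_left nad
  exact nbd (by linear_combination h3 - h4)

theorem card_HE [Fintype F] {E : Subalgebra F M2} (hcomm : ∀ x ∈ E, ∀ y ∈ E, x * y = y * x) {X : M2} (hX : X ∈ E)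
    (hs : ¬ Sc X) (hq : 3 ≤ Fintype.card F) : Fintype.card F - 1 ≤ Nat.card ↥(HE E) := by
  classical
  set y : F × F → M2 := fun p => p.1 • (1 : M2) + p.2 • X with hy
  have hyE : ∀ p, y p ∈ E := fun p => E.add_mem (E.smul_mem E.one_mem _) (E.smul_mem hX _)
  have hyi : Function.Injective y := by
    rintro ⟨a, b⟩ ⟨a', b'⟩ h
    have h1 : (b' - b) • X = (a - a') • (1 : M2) := by
      have h2 : a • (1 : M2) + b • X = a' • (1 : M2) + b' • X := h
      rw [sub_smul, sub_smul, sub_eq_sub_iff_add_eq_add, add_comm (b' • X), ← h2]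
    by_cases hb : b' - b = 0
    · rw [hb, zero_smul] at h1
      have h3 : a - a' = 0 := by
        have := congrFun (congrFun h1 0) 0
        simpa using this.symm
      rw [Prod.mk.injEq]
      exact ⟨by linear_combination h3, by linear_combination -hb⟩
    · exfalso
      apply hs
      refine ⟨(b' - b)⁻¹ * (a - a'), ?_⟩
      rw [mul_smul, ← h1, smul_smul, inv_mul_cancel₀ hb, one_smul]
  set Q : F × F → F := fun p => (y p).det with hQ
  set S : Finset (F × F) := Finset.univ.filter fun p => Q p ≠ 0 with hS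
  set Z : Finset (F × F) := Finset.univ.filter fun p => Q p = 0 with hZ
  have h1 : Z.card ≤ 2 * Fintype.card F := by
    rw [← Finset.card_univ]
    refine Finset.card_le_mul_card_image_of_maps_to (f := fun p : F × F => p.2) (fun p _ => Finset.mem_univ _) 2 ?_
    intro b _
    by_contra hcon
    push Not at hcon
    obtain ⟨⟨p, p'⟩, ⟨q, q'⟩, ⟨s, s'⟩, ha, hb, hd, hab, had, hbd⟩ := Finset.two_lt_card_iff.1 hcon
    rw [Finset.mem_filter, hZ, Finset.mem_filter] at ha hb hd
    obtain ⟨⟨-, ha⟩, rfl⟩ := ha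
    obtain ⟨⟨-, hb⟩, hb'⟩ := hb
    obtain ⟨⟨-, hd⟩, hd'⟩ := hd
    dsimp only at hb' hd'
    subst hb' hd'
    rw [hQ, hy] at ha hb hd
    dsimp only at ha hb hd
    rw [det_span] at ha hb hd
    have nab : p - q ≠ 0 := fun h => hab (by rw [sub_eq_zero.1 h])
    have nad : p - s ≠ 0 := fun h => had (by rw [sub_eq_zero.1 h])
    have nbd : q - s ≠ 0 := fun h => hbd (by rw [sub_eq_zero.1 h])
    have h3 : p + q + s' * X.trace = 0 := by
      have : (p - q) * (p + q + s' * X.trace) = 0 := by linear_combination ha - hb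
      exact (mul_eq_zero.1 this).resolve_left nab
    have h4 : p + s + s' * X.trace = 0 := by
      have : (p - s) * (p + s + s' * X.trace) = 0 := by linear_combination ha - hd
      exact (mul_eq_zero.1 this).resolve_left nad
    exact nbd (by linear_combination h3 - h4)
  have h2 : S.card + Z.card = Fintype.card F * Fintype.card F := by
    rw [← Fintype.card_prod, ← Finset.card_univ, hS, hZ, add_comm]
    exact Finset.card_filter_add_card_filter_not _
  have : Fintype ↥(HE E) := Fintype.ofFinite _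
  have h3 : S.card ≤ Nat.card ↥(HE E) * (Fintype.card F - 1) := by
    have h4 : (Finset.univ.erase (0 : F)).card = Fintype.card F - 1 := by
      rw [Finset.card_erase_of_mem (Finset.mem_univ _), Finset.card_univ]
    rw [← h4]
    refine Finset.card_le_mul_card_image_of_maps_to (f := Q) (fun p hp => ?_) _ ?_
    · rw [hS, Finset.mem_filter] at hp
      exact Finset.mem_erase.2 ⟨hp.2, Finset.mem_univ _⟩
    intro c hc
    have hc0 : c ≠ 0 := (Finset.mem_erase.1 hc).1
    rcases (S.filter fun p => Q p = c).eq_empty_or_nonempty with h5 | ⟨p0, hp0⟩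
    · rw [h5, Finset.card_empty]
      exact Nat.zero_le _
    rw [Nat.card_eq_fintype_card, ← Finset.card_univ (α := ↥(HE E))]
    rw [Finset.mem_filter] at hp0
    have hdet : ∀ p ∈ S.filter fun p => Q p = c, (c⁻¹ • (y p * (y p0).adjugate)).det = 1 := by
      intro p hp
      rw [Finset.mem_filter] at hp
      have e1 : (y p).det = c := hp.2
      have e2 : (y p0).det = c := hp0.2
      rw [Matrix.det_smul, Matrix.det_mul, Matrix.det_adjugate, Fintype.card_fin, e1, e2]
      field_simp
      norm_num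
    refine Finset.card_le_card_of_injOn
      (fun p => if hp : (c⁻¹ • (y p * (y p0).adjugate)).det = 1 then
        (⟨⟨c⁻¹ • (y p * (y p0).adjugate), hp⟩, E.smul_mem (E.mul_mem (hyE p) (adj_mem (hyE p0))) _⟩ : ↥(HE E)) else 1)
      (fun _ _ => Finset.mem_coe.2 (Finset.mem_univ _)) ?_
    intro p hp p' hp' hpp
    have e1 := hdet p hp
    have e2 := hdet p' hp'
    dsimp only at hpp
    rw [dif_pos e1, dif_pos e2] at hpp
    have e3 : c⁻¹ • (y p * (y p0).adjugate) = c⁻¹ • (y p' * (y p0).adjugate) :=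
      congrArg (fun s : ↥(HE E) => ((s : S2) : M2)) hpp
    apply hyi
    have e4 : y p * (y p0).adjugate = y p' * (y p0).adjugate := by
      have := congrArg (fun m => c • m) e3
      simpa only [smul_smul, mul_inv_cancel₀ hc0, one_smul] using this
    have e5 : (y p0).det = c := hp0.2
    have e6 : c⁻¹ • (y p * (y p0).adjugate * y p0) = c⁻¹ • (y p' * (y p0).adjugate * y p0) := by rw [e4]
    rwa [mul_assoc, mul_assoc, Matrix.adjugate_mul, e5, mul_smul_comm, mul_smul_comm, mul_one, mul_one, smul_smul, smul_smul,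
      inv_mul_cancel₀ hc0, one_smul, one_smul] at e6
  obtain ⟨k, hk⟩ : ∃ k, Fintype.card F = k + 3 := ⟨Fintype.card F - 3, by omega⟩
  rw [hk] at h1 h2 h3 ⊢
  simp only [Nat.add_succ_sub_one] at h3 ⊢
  by_contra hcon
  push Not at hcon
  have h5 : Nat.card ↥(HE E) ≤ k + 1 := by omega
  have h6 : Nat.card ↥(HE E) * (k + 2) ≤ (k + 1) * (k + 2) := Nat.mul_le_mul_right _ h5
  nlinarith

/-- the elements of `SL₂(F)` normalising `E` -/
theorem out_aux {E : Subalgebra F M2} (hcomm : ∀ x ∈ E, ∀ y ∈ E, x * y = y * x)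
    (hun : ∀ e ∈ HE E, ((e : M2) - 1) * ((e : M2) - 1) = 0 → e = 1) {X : M2} (hX : X ∈ E) (hsX : ¬ Sc X) {s : S2}
    (hs : s ∉ HE E) (hn : (s : M2) * X * ((s⁻¹ : S2) : M2) ∈ E) :
    (∀ e ∈ HE E, s * e * s⁻¹ = e⁻¹) ∧ s * s = -1 := by
  have hss : ((s⁻¹ : S2) : M2) * (s : M2) = 1 := by
    rw [← Matrix.SpecialLinearGroup.coe_mul, inv_mul_cancel, Matrix.SpecialLinearGroup.coe_one]
  have hss' : (s : M2) * ((s⁻¹ : S2) : M2) = 1 := by
    rw [← Matrix.SpecialLinearGroup.coe_mul, mul_inv_cancel, Matrix.SpecialLinearGroup.coe_one]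
  set X1 := (s : M2) * X * ((s⁻¹ : S2) : M2) with hX1
  have ht : X1.trace = X.trace := by
    rw [hX1, Matrix.trace_mul_comm, ← mul_assoc, hss, one_mul]
  have hd : X1.det = X.det := by
    rw [hX1, Matrix.det_mul, Matrix.det_mul, s.2, (s⁻¹ : S2).2, one_mul, mul_one]
  have hc := hcomm X1 hn X hX
  have c1 := ch X1
  have c0 := ch X
  rw [ht, hd] at c1
  set P := X1 - X with hP
  set Q := X1 + X - X.trace • (1 : M2) with hQ
  have hPE : P ∈ E := E.sub_mem hn hX
  have hPQ : P * Q = 0 := by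
    rw [hP, hQ]
    simp only [mul_sub, sub_mul, mul_add, c1, c0, hc, mul_smul_comm, mul_one]
    module
  have hPt : P.trace = 0 := by rw [hP, Matrix.trace_sub, ht, sub_self]
  have hP0 : P ≠ 0 := by
    intro h
    apply hs
    rw [mem_HE]
    refine mem_of_comm hX hsX ?_
    have h1 : X1 = X := sub_eq_zero.1 h
    calc (s : M2) * X = (s : M2) * X * (((s⁻¹ : S2) : M2) * (s : M2)) := by rw [hss, mul_one]
      _ = X1 * s := by rw [hX1]; simp only [mul_assoc]
      _ = X * s := by rw [h1]
  have hPd : P.det ≠ 0 := by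
    intro h
    apply hP0
    have h1 : P * P = 0 := by rw [ch, hPt, h, zero_smul, zero_smul, sub_zero]
    have h2 : ((1 : F) • (1 : M2) + (1 : F) • P).det = 1 := by
      rw [det_span, hPt, h]
      ring
    rw [one_smul, one_smul] at h2
    have h3 := hun ⟨1 + P, h2⟩ (E.add_mem E.one_mem hPE) (by
      change (1 + P - 1) * (1 + P - 1) = 0
      rw [add_sub_cancel_left, h1])
    have h4 : 1 + P = 1 := congrArg (fun s : S2 => (s : M2)) h3
    simpa using h4
  have hQ0 : Q = 0 := by
    have h1 : P.adjugate * (P * Q) = P.det • Q := by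
      rw [← mul_assoc, Matrix.adjugate_mul, smul_mul_assoc, one_mul]
    rw [hPQ, mul_zero] at h1
    exact (smul_eq_zero.1 h1.symm).resolve_left hPd
  have hX1' : X1 = X.trace • (1 : M2) - X := by
    rw [eq_sub_iff_add_eq]
    exact sub_eq_zero.1 hQ0
  refine ⟨?_, ?_⟩
  · intro e he
    apply Subtype.ext
    change ((s * e * s⁻¹ : S2) : M2) = ((e⁻¹ : S2) : M2)
    rw [Matrix.SpecialLinearGroup.coe_mul, Matrix.SpecialLinearGroup.coe_mul, Matrix.SpecialLinearGroup.coe_inv e, adj_eq]
    obtain ⟨a, b, hab⟩ := span_of_comm hsX (hcomm e he X hX)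
    rw [hab, trace_span]
    calc (s : M2) * (a • (1 : M2) + b • X) * ((s⁻¹ : S2) : M2)
        = a • ((s : M2) * ((s⁻¹ : S2) : M2)) + b • ((s : M2) * X * ((s⁻¹ : S2) : M2)) := by
          rw [mul_add, add_mul, mul_smul_comm, mul_smul_comm, mul_one, smul_mul_assoc, smul_mul_assoc]
      _ = a • (1 : M2) + b • (X.trace • (1 : M2) - X) := by rw [hss', ← hX1, hX1']
      _ = _ := by
        rw [smul_sub, smul_smul]
        module
  · have h1 : (s : M2) * X = X1 * s := by
      calc (s : M2) * X = (s : M2) * X * (((s⁻¹ : S2) : M2) * (s : M2)) := by rw [hss, mul_one]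
        _ = X1 * s := by rw [hX1]; simp only [mul_assoc]
    have h2 : (s : M2) * X1 = X * s := by
      rw [hX1', mul_sub, mul_smul_comm, mul_one, h1, hX1', sub_mul, smul_mul_assoc, one_mul]
      abel
    have h3 : ((s : M2) * s) * X = X * (s * s) := by
      rw [mul_assoc, h1, ← mul_assoc, h2, mul_assoc]
    have h4 : (s : M2).trace = 0 := by
      by_contra h5
      apply hs
      rw [mem_HE]
      refine mem_of_comm hX hsX ?_
      rw [ch1, sub_mul, mul_sub, smul_mul_assoc, mul_smul_comm, one_mul, mul_one, sub_left_inj] at h3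
      have := congrArg (fun m => (s : M2).trace⁻¹ • m) h3
      simpa only [smul_smul, inv_mul_cancel₀ h5, one_smul] using this
    apply Subtype.ext
    change ((s * s : S2) : M2) = ((-1 : S2) : M2)
    rw [Matrix.SpecialLinearGroup.coe_mul, ch1, h4, zero_smul, zero_sub]
    rfl

end Alg

end Cfsg.Agent.H947.TW
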