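import Cfsg.Agent.H947.TW.TorA

/-!
# S3694, task T11 (helper947): the normaliser of a torus of `SL₂(F)`

`two_torus` : if the maximal subgroup `A` fixes a commutative subalgebra `E ≠ F` of `M₂(F)`, then `|A| ≤ M d`.
-/

set_option autoImplicit false
set_option linter.unusedSectionVars false

namespace Cfsg.Agent.H947.TW

open Subgroup Cfsg.Agent.H607.TW Matrix

universe u

section Grp

variable {G : Type u} [Group G] [Finite G] {N A : Subgroup G} {r : ℕ} {F : Type} [Field F] [Fintype F]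

local notation "M2" => Matrix (Fin 2) (Fin 2) F
local notation "S2" => Matrix.SpecialLinearGroup (Fin 2) F

theorem conj_mem' {π : S2 →* G} (hM : Model N (iSL 2 F) π) {E : Subalgebra F M2} (hE : Inv (iSL 2 F) π A E) :
    ∀ a ∈ A, ∀ t ∈ (HE E).map π, a * t * a⁻¹ ∈ (HE E).map π := by
  rintro a ha _ ⟨s, hs, rfl⟩
  obtain ⟨B, σ, hi, hl⟩ := exists_lift π hM a
  obtain ⟨s', h1, h2⟩ := hl s
  refine ⟨s', ?_, h2⟩
  rw [SetLike.mem_coe, mem_HE, h1]
  exact hE a ha _ hi _ hs

theorem map_comm {π : S2 →* G} {E : Subalgebra F M2} (hcomm : ∀ x ∈ E, ∀ y ∈ E, x * y = y * x) :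
    ∀ x ∈ (HE E).map π, ∀ y ∈ (HE E).map π, x * y = y * x := by
  rintro _ ⟨s, hs, rfl⟩ _ ⟨t, ht, rfl⟩
  rw [← map_mul, ← map_mul]
  congr 1
  apply Subtype.ext
  exact hcomm s hs t ht

theorem map_le {π : S2 →* G} (hM : Model N (iSL 2 F) π) {E : Subalgebra F M2} : (HE E).map π ≤ N := by
  rw [← hM.range]
  exact Subgroup.map_le_range π _

theorem map_leA {π : S2 →* G} (h : Loc N A r) (hM : Model N (iSL 2 F) π) {E : Subalgebra F M2} (hE : Inv (iSL 2 F) π A E)
    (hcomm : ∀ x ∈ E, ∀ y ∈ E, x * y = y * x) : (HE E).map π ≤ A :=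
  le_of_norm h (map_le hM) (ne_of_comm h (map_comm hcomm)) fun a ha => norm_of_forall (conj_mem' hM hE a ha)

theorem map_isPGroup {π : S2 →* G} (h : Loc N A r) (hM : Model N (iSL 2 F) π) {E : Subalgebra F M2}
    (hE : Inv (iSL 2 F) π A E) (hcomm : ∀ x ∈ E, ∀ y ∈ E, x * y = y * x) : IsPGroup r ((HE E).map π : Subgroup G) := by
  have hn : Group.IsNilpotent ↥((HE E).map π) := by
    let _ : CommGroup ↥((HE E).map π) :=
      { (inferInstance : Group ↥((HE E).map π)) with
        mul_comm := fun a b => Subtype.ext (map_comm (π := π) hcomm a.1 a.2 b.1 b.2) }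
    exact CommGroup.isNilpotent
  have h1 := Cfsg.Agent.Lib.LocalCore.le_map_fittingSubgroup (map_leA h hM hE hcomm) hn
    (fun a ha => norm_of_forall (conj_mem' hM hE a ha))
  have h2 : (Cfsg.fittingSubgroup ↥A).map A.subtype ≤ (Cfsg.pCore r ↥A).map A.subtype := by
    rw [← h.star]
    exact Subgroup.map_mono le_sup_right
  exact (Cfsg.Agent.Lib.LocalCore.isPGroup_map_pCore r A).to_le (h1.trans h2)

/-- no unipotent elements -/
theorem unip {π : S2 →* G} (hM : Model N (iSL 2 F) π) (hrp : r.Prime) (hr : ¬ r ∣ Fintype.card F) {E : Subalgebra F M2}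
    (hT : IsPGroup r ((HE E).map π : Subgroup G)) :
    ∀ e ∈ HE E, ((e : M2) - 1) * ((e : M2) - 1) = 0 → e = 1 := by
  intro e he hu
  set p := ringChar F with hpdef
  have hp : p.Prime := CharP.char_is_prime F p
  have hpf : Fact p.Prime := ⟨hp⟩
  have hcp : CharP M2 p := inferInstance
  have hpr : p ≠ r := by
    rintro h
    obtain ⟨n, -, hn⟩ := FiniteField.card F p
    apply hr
    rw [hn, ← h]
    exact dvd_pow_self p n.ne_zero
  have h1 : (e : M2) ^ p = 1 := by
    have h2 : (e : M2) = 1 + ((e : M2) - 1) := by abel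
    rw [h2, add_pow_char_of_commute p (Commute.one_left _), one_pow]
    have h3 : ((e : M2) - 1) ^ p = 0 := by
      obtain ⟨k, hk⟩ : ∃ k, p = 2 + k := ⟨p - 2, by have := hp.two_le; omega⟩
      rw [hk, pow_add, pow_two, hu, zero_mul]
    rw [h3, add_zero]
  have h4 : e ^ p = 1 := Subtype.ext (by rw [Matrix.SpecialLinearGroup.coe_pow, h1, Matrix.SpecialLinearGroup.coe_one])
  have h5 : (π e) ^ p = 1 := by rw [← map_pow, h4, map_one]
  obtain ⟨k, hk⟩ := hT ⟨π e, mem_map_of_mem π he⟩
  have hk' : (π e) ^ (r ^ k) = 1 := congrArg Subtype.val hk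
  have h6 : Nat.Coprime p (r ^ k) := ((Nat.coprime_primes hp hrp).2 hpr).pow_right k
  have h7 : π e = 1 := by
    rw [← orderOf_eq_one_iff, ← Nat.dvd_one, ← h6]
    exact Nat.dvd_gcd (orderOf_dvd_of_pow_eq_one h5) (orderOf_dvd_of_pow_eq_one hk')
  rcases pi_eq_one π hM h7 with h8 | h8
  · exact h8
  · rw [h8] at hu ⊢
    have h9 : (2 : F) = 0 := by
      have h10 : ((-1 : S2) : M2) = -1 := rfl
      rw [h10] at hu
      have h11 := congrFun (congrFun hu 0) 0
      simp only [Matrix.mul_apply, Fin.sum_univ_two, Matrix.sub_apply, Matrix.neg_apply, Matrix.one_apply_eq, ne_eq,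
        zero_ne_one, not_false_eq_true, Matrix.one_apply_ne, one_ne_zero, neg_zero, sub_zero, mul_zero, add_zero,
        Matrix.zero_apply] at h11
      have h12 : (2 : F) * 2 = 0 := by linear_combination h11
      exact (mul_self_eq_zero.1 h12)
    apply Subtype.ext
    change (-1 : M2) = 1
    have h13 : (-1 : F) = 1 := by linear_combination -h9
    ext i j
    fin_cases i <;> fin_cases j <;> simp [h13]

/-- `B ^ k` induces the conjugation by `x ^ k` -/
theorem lift_pow {π : S2 →* G} {x : G} {B : GL (Fin 2) F}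
    (hl : ∀ s : S2, ∃ s' : S2, (s' : M2) = (B : M2) * s * ((B⁻¹ : GL (Fin 2) F) : M2) ∧ π s' = x * π s * x⁻¹) (k : ℕ) :
    ∀ s : S2, ∃ s' : S2, (s' : M2) = ((B ^ k : GL (Fin 2) F) : M2) * s * (((B ^ k)⁻¹ : GL (Fin 2) F) : M2) ∧
      π s' = x ^ k * π s * (x ^ k)⁻¹ := by
  induction k with
  | zero =>
    intro s
    refine ⟨s, ?_, ?_⟩
    · rw [pow_zero, inv_one, Units.val_one, one_mul, mul_one]
    · rw [pow_zero, inv_one, one_mul, mul_one]
  | succ k ih =>
    intro s
    obtain ⟨s1, h1, h2⟩ := ih s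
    obtain ⟨s2, h3, h4⟩ := hl s1
    refine ⟨s2, ?_, ?_⟩
    · rw [h3, h1, pow_succ', _root_.mul_inv_rev, Units.val_mul, Units.val_mul]
      simp only [mul_assoc]
    · rw [h4, h2, pow_succ', _root_.mul_inv_rev]
      simp only [mul_assoc]

/-- a matrix inducing the identity is scalar -/
theorem scalar_of_trivial {π : S2 →* G} (hM : Model N (iSL 2 F) π) {B : GL (Fin 2) F}
    (hl : ∀ s : S2, ∃ s' : S2, (s' : M2) = (B : M2) * s * ((B⁻¹ : GL (Fin 2) F) : M2) ∧ π s' = π s) :
    ∃ c : F, (B : M2) = c • (1 : M2) := by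
  have hBB : ((B⁻¹ : GL (Fin 2) F) : M2) * (B : M2) = 1 := by rw [← Units.val_mul, inv_mul_cancel, Units.val_one]
  have key : ∀ s : S2, (s : M2).trace = 2 → (B : M2) * s = s * B := by
    intro s hs
    obtain ⟨s', h1, h2⟩ := hl s
    have h3 : (s' : M2) = s := by
      rcases pi_eq π hM h2 with h4 | h4
      · rw [h4]
      · have h5 : (s' : M2).trace = (s : M2).trace := by
          rw [h1, Matrix.trace_mul_comm, ← mul_assoc, hBB, one_mul]
        have h6 : (s' : M2) = -(s : M2) := by rw [h4]; rfl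
        have h7 : (2 : F) = 0 := by
          rw [h6, Matrix.trace_neg, hs] at h5
          have h8 : (2 : F) * 2 = 0 := by linear_combination -h5
          exact mul_self_eq_zero.1 h8
        rw [h6]
        ext i j
        rw [Matrix.neg_apply]
        linear_combination -((s : M2) i j) * h7
    calc (B : M2) * s = (B : M2) * s * (((B⁻¹ : GL (Fin 2) F) : M2) * (B : M2)) := by rw [hBB, mul_one]
      _ = s' * B := by rw [h1]; simp only [mul_assoc]
      _ = s * B := by rw [h3]
  have k1 := key ⟨!![1, 1; 0, 1], by simp [Matrix.det_fin_two]⟩ (by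
    change Matrix.trace !![1, 1; 0, 1] = 2
    rw [Matrix.trace_fin_two]
    simp
    norm_num)
  have k2 := key ⟨!![1, 0; 1, 1], by simp [Matrix.det_fin_two]⟩ (by
    change Matrix.trace !![1, 0; 1, 1] = 2
    rw [Matrix.trace_fin_two]
    simp
    norm_num)
  change (B : M2) * !![1, 1; 0, 1] = !![1, 1; 0, 1] * (B : M2) at k1
  change (B : M2) * !![1, 0; 1, 1] = !![1, 0; 1, 1] * (B : M2) at k2
  have a1 := congrFun (congrFun k1 0) 0
  have a2 := congrFun (congrFun k1 0) 1
  have a3 := congrFun (congrFun k2 0) 0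
  simp [Matrix.mul_apply, Fin.sum_univ_two] at a1 a2 a3
  refine ⟨(B : M2) 0 0, ?_⟩
  ext i j
  fin_cases i <;> fin_cases j
  · simp
  · simpa using a3
  · simpa using a1
  · simp
    linear_combination -a2

/-- `B` with square determinant -/
theorem mem_of_isSquare {π : S2 →* G} (hM : Model N (iSL 2 F) π) (hc : centralizer (N : Set G) = ⊥) {x : G}
    {B : GL (Fin 2) F}
    (hl : ∀ s : S2, ∃ s' : S2, (s' : M2) = (B : M2) * s * ((B⁻¹ : GL (Fin 2) F) : M2) ∧ π s' = x * π s * x⁻¹)
    (hsq : IsSquare (B : M2).det) : x ∈ N := by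
  obtain ⟨μ, hμ⟩ := hsq
  have hBB : ((B⁻¹ : GL (Fin 2) F) : M2) * (B : M2) = 1 := by rw [← Units.val_mul, inv_mul_cancel, Units.val_one]
  have hd : (B : M2).det ≠ 0 := by
    intro h
    have := congrArg Matrix.det hBB
    rw [Matrix.det_mul, h, mul_zero, Matrix.det_one] at this
    exact zero_ne_one this
  have hμ0 : μ ≠ 0 := by
    rintro rfl
    rw [mul_zero] at hμ
    exact hd hμ
  let s0 : S2 := ⟨μ⁻¹ • (B : M2), by
    rw [Matrix.det_smul, hμ, Fintype.card_fin]
    field_simp⟩
  have hs0 : (s0 : M2) = μ⁻¹ • (B : M2) := rfl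
  have h1 : (π s0)⁻¹ * x ∈ centralizer (N : Set G) := by
    rw [mem_centralizer_iff]
    rintro y hy
    rw [SetLike.mem_coe, ← hM.range] at hy
    obtain ⟨s, rfl⟩ := hy
    obtain ⟨s', h2, h3⟩ := hl s
    have h4 : s' * s0 = s0 * s := by
      apply Subtype.ext
      change (s' : M2) * (s0 : M2) = (s0 : M2) * (s : M2)
      rw [h2, hs0, mul_smul_comm, smul_mul_assoc, mul_assoc, hBB, mul_one]
    have h5 : π s' = π s0 * π s * (π s0)⁻¹ := by
      rw [eq_mul_inv_iff_mul_eq, ← map_mul, ← map_mul, h4]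
    rw [h3] at h5
    calc π s * ((π s0)⁻¹ * x) = (π s0)⁻¹ * (π s0 * π s * (π s0)⁻¹) * x := by group
      _ = (π s0)⁻¹ * (x * π s * x⁻¹) * x := by rw [h5]
      _ = (π s0)⁻¹ * x * π s := by group
  rw [hc, mem_bot, inv_mul_eq_one] at h1
  rw [← h1, ← hM.range]
  exact ⟨s0, rfl⟩

/-- the number of elements of `G`, crudely -/
theorem card_G_le {π : S2 →* G} (hM : Model N (iSL 2 F) π) (hc : centralizer (N : Set G) = ⊥) :
    Nat.card G ≤ Fintype.card F ^ 5 := by
  classical
  choose B σ hi hl using exists_lift π hM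
  obtain ⟨u, hu⟩ := IsCyclic.exists_generator (α := Fˣ)
  let Φ : G → (Fin 2 → Fin 2 → F) × F := fun g => (fun i j => ((B g : GL (Fin 2) F) : M2) i j, σ g (u : F))
  have hinj : Function.Injective Φ := by
    intro g g' hgg
    have h1 : B g = B g' := Units.ext (by
      ext i j
      exact congrFun (congrFun (congrArg Prod.fst hgg) i) j)
    have h2 : σ g = σ g' := by
      have h3 : σ g (u : F) = σ g' (u : F) := congrArg Prod.snd hgg
      ext a
      by_cases ha : a = 0
      · rw [ha, map_zero, map_zero]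
      · obtain ⟨k, hk⟩ := mem_powers_iff_mem_zpowers.2 (hu (Units.mk0 a ha))
        have hk' : (u : F) ^ k = a := by
          have := congrArg Units.val hk
          simpa using this
        rw [← hk', map_pow, map_pow, h3]
    have h3 : g'⁻¹ * g ∈ centralizer (N : Set G) := by
      rw [mem_centralizer_iff]
      rintro y hy
      rw [SetLike.mem_coe, ← hM.range] at hy
      obtain ⟨s, rfl⟩ := hy
      obtain ⟨s1, h4, h5⟩ := hl g s
      obtain ⟨s2, h6, h7⟩ := hl g' s
      have h8 : s1 = s2 := Subtype.ext (by rw [h4, h6, h1, h2])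
      rw [h8] at h5
      have h9 : g * π s * g⁻¹ = g' * π s * g'⁻¹ := by rw [← h5, ← h7]
      calc π s * (g'⁻¹ * g) = g'⁻¹ * (g' * π s * g'⁻¹) * g := by group
        _ = g'⁻¹ * (g * π s * g⁻¹) * g := by rw [h9]
        _ = g'⁻¹ * g * π s := by group
    rw [hc, mem_bot, inv_mul_eq_one] at h3
    exact h3.symm
  have h1 := Nat.card_le_card_of_injective Φ hinj
  refine h1.trans (le_of_eq ?_)
  rw [Nat.card_eq_fintype_card, Fintype.card_prod]
  simp only [Fintype.card_pi, Finset.prod_const, Finset.card_univ, Fintype.card_fin]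
  ring

/-- the determinant is a square -/
theorem isSquare_det {π : S2 →* G} (hM : Model N (iSL 2 F) π) (hr : ¬ r ∣ Fintype.card F)
    {E : Subalgebra F M2} (hcomm : ∀ x ∈ E, ∀ y ∈ E, x * y = y * x) {B : GL (Fin 2) F} (hB : (B : M2) ∈ E)
    (hT : IsPGroup r ((HE E).map π : Subgroup G)) {c : F} (hBr : (B : M2) ^ r = c • (1 : M2)) (hrp : r.Prime)
    {h0 : S2} (hh0 : h0 ∈ HE E) (hord : 2 < orderOf h0) : IsSquare (B : M2).det := by
  by_cases h2 : ringChar F = 2
  · exact FiniteField.isSquare_of_char_two h2 _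
  have h2' : (2 : F) ≠ 0 := Ring.two_ne_zero h2
  have hBB : ((B⁻¹ : GL (Fin 2) F) : M2) * (B : M2) = 1 := by rw [← Units.val_mul, inv_mul_cancel, Units.val_one]
  have hd : (B : M2).det ≠ 0 := by
    intro h
    have := congrArg Matrix.det hBB
    rw [Matrix.det_mul, h, mul_zero, Matrix.det_one] at this
    exact zero_ne_one this
  rcases hrp.eq_two_or_odd' with rfl | ⟨k, hk⟩
  · -- `r = 2`
    obtain ⟨k, hk⟩ := hT ⟨π h0, mem_map_of_mem π hh0⟩
    have hk' : (π h0) ^ (2 ^ k) = 1 := congrArg Subtype.val hk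
    have h3 : h0 ^ (2 ^ (k + 1)) = 1 := by
      rw [← map_pow] at hk'
      rw [pow_succ, pow_mul]
      rcases pi_eq_one π hM hk' with h4 | h4
      · rw [h4, one_pow]
      · rw [h4, neg_one_sq]
    have hex : ∃ j, h0 ^ (2 ^ j) = 1 := ⟨k + 1, h3⟩
    classical
    obtain ⟨j, hj, hmin⟩ : ∃ j, h0 ^ (2 ^ j) = 1 ∧ ∀ i < j, h0 ^ (2 ^ i) ≠ 1 :=
      ⟨Nat.find hex, Nat.find_spec hex, fun i hi => Nat.find_min hex hi⟩
    have hj2 : 2 ≤ j := by
      by_contra hcon
      have h4 : 2 ^ j ≤ 2 ^ 1 := Nat.pow_le_pow_right (by norm_num) (by omega)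
      have h5 := orderOf_le_of_pow_eq_one (by positivity) hj
      omega
    obtain ⟨i, rfl⟩ : ∃ i, j = i + 2 := ⟨j - 2, by omega⟩
    set i0 : S2 := h0 ^ (2 ^ i) with hi0
    have hy1 : i0 * i0 ≠ 1 := by
      have := hmin (i + 1) (by omega)
      rw [pow_succ, pow_mul, ← hi0, pow_two] at this
      exact this
    have hy2 : (i0 * i0) * (i0 * i0) = 1 := by
      have := hj
      rw [pow_add, pow_mul, ← hi0] at this
      rw [← this, show (2 : ℕ) ^ 2 = 2 + 2 from rfl, pow_add, pow_two]
    have hi0E : (i0 : M2) ∈ E := (HE E).pow_mem hh0 _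
    have hym : ((i0 * i0 : S2) : M2) = -1 := by
      have h4 := ch1 (i0 * i0)
      rw [← Matrix.SpecialLinearGroup.coe_mul, hy2, Matrix.SpecialLinearGroup.coe_one] at h4
      have h5 : ((i0 * i0 : S2) : M2).trace • ((i0 * i0 : S2) : M2) = (2 : F) • (1 : M2) := by
        rw [two_smul]
        exact (eq_sub_iff_add_eq.1 h4).symm
      by_cases h6 : ((i0 * i0 : S2) : M2).trace = 0
      · exfalso
        rw [h6, zero_smul] at h5
        have := congrFun (congrFun h5 0) 0
        simp at this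
        exact h2' this.symm
      · have h7 : ((i0 * i0 : S2) : M2) = (((i0 * i0 : S2) : M2).trace⁻¹ * 2) • (1 : M2) := by
          rw [mul_smul, ← h5, smul_smul, inv_mul_cancel₀ h6, one_smul]
        set e := ((i0 * i0 : S2) : M2).trace⁻¹ * 2 with he
        have h8 : e ^ 2 = 1 := by
          have := (i0 * i0 : S2).2
          rw [h7, Matrix.det_smul, Matrix.det_one, mul_one, Fintype.card_fin] at this
          exact this
        have h9 : (e - 1) * (e + 1) = 0 := by linear_combination h8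
        rcases mul_eq_zero.1 h9 with h10 | h10
        · exfalso
          apply hy1
          apply Subtype.ext
          have : e = 1 := by linear_combination h10
          rw [this, one_smul] at h7
          exact h7
        · have : e = -1 := by linear_combination h10
          rw [h7, this, neg_smul, one_smul]
    have hc1 := ch1 i0
    rw [← Matrix.SpecialLinearGroup.coe_mul, hym] at hc1
    have hi0ne : (i0 : M2) ≠ 0 := by
      intro h
      have := i0.2
      rw [h, Matrix.det_fin_two] at this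
      simp at this
    have htr : (i0 : M2).trace = 0 := by
      have h4 : (i0 : M2).trace • (i0 : M2) = 0 := by
        rw [eq_comm, sub_eq_iff_eq_add] at hc1
        rw [hc1]
        abel
      exact (smul_eq_zero.1 h4).resolve_right hi0ne
    have hns : ¬ Sc (i0 : M2) := by
      rintro ⟨e, he⟩
      rw [he, Matrix.trace_smul, Matrix.trace_one, Fintype.card_fin, smul_eq_mul] at htr
      push_cast at htr
      rcases mul_eq_zero.1 htr with h4 | h4
      · apply hi0ne
        rw [he, h4, zero_smul]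
      · exact h2' h4
    have hB2 := ch (B : M2)
    rw [← pow_two, hBr] at hB2
    by_cases h6 : (B : M2).trace = 0
    · obtain ⟨a, b, hab⟩ := span_of_comm hns (hcomm _ hB _ hi0E)
      have h7 : a = 0 := by
        rw [hab, trace_span, htr, mul_zero, add_zero] at h6
        exact (mul_eq_zero.1 h6).resolve_left h2'
      rw [hab, h7, det_span, htr, i0.2]
      exact ⟨b, by ring⟩
    · have h7 : (B : M2).trace • (B : M2) = (c + (B : M2).det) • (1 : M2) := by
        rw [add_smul, hB2]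
        abel
      have h8 : (B : M2) = ((B : M2).trace⁻¹ * (c + (B : M2).det)) • (1 : M2) := by
        rw [mul_smul, ← h7, smul_smul, inv_mul_cancel₀ h6, one_smul]
      rw [h8, Matrix.det_smul, Matrix.det_one, mul_one, Fintype.card_fin]
      exact ⟨_, pow_two _⟩
  · -- `r` odd
    have h3 : (B : M2).det ^ r = c ^ 2 := by
      rw [← Matrix.det_pow, hBr, Matrix.det_smul, Matrix.det_one, mul_one, Fintype.card_fin]
    refine ⟨c / (B : M2).det ^ k, ?_⟩
    rw [div_mul_div_comm, eq_div_iff (mul_ne_zero (pow_ne_zero _ hd) (pow_ne_zero _ hd)), ← pow_two c, ← h3, hk]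
    ring

/-- elements of order `r` centralising the torus -/
theorem hF_aux {π : S2 →* G} (hM : Model N (iSL 2 F) π) (hc : centralizer (N : Set G) = ⊥) (hrp : r.Prime)
    (hr : ¬ r ∣ Fintype.card F) (hq : 63 ≤ Fintype.card F)
    {E : Subalgebra F M2} (hcomm : ∀ x ∈ E, ∀ y ∈ E, x * y = y * x) {X : M2} (hX : X ∈ E) (hsX : ¬ Sc X)
    (hT : IsPGroup r ((HE E).map π : Subgroup G)) {x : G} (hxr : x ^ r = 1)
    (hx : ∀ t ∈ (HE E).map π, x * t = t * x) : x ∈ N := by
  classical
  have hun := unip hM hrp hr hT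
  have hcyc := cyclic_HE hcomm hun
  obtain ⟨h0, hh0⟩ := hcyc.exists_generator
  have hord : orderOf h0 = Nat.card ↥(HE E) := orderOf_eq_card_of_forall_mem_zpowers hh0
  have hcard := card_HE hcomm hX hsX (by omega)
  rw [← hord] at hcard
  set n := orderOf h0 with hn
  obtain ⟨B, σ, -, hl⟩ := exists_lift π hM x
  have hBB : ((B⁻¹ : GL (Fin 2) F) : M2) * (B : M2) = 1 := by rw [← Units.val_mul, inv_mul_cancel, Units.val_one]
  have hBB' : (B : M2) * ((B⁻¹ : GL (Fin 2) F) : M2) = 1 := by rw [← Units.val_mul, mul_inv_cancel, Units.val_one]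
  have hg : tauP B σ (((h0 : S2) * h0 : S2) : M2) = (((h0 : S2) * h0 : S2) : M2) := by
    obtain ⟨s', h1, h2⟩ := hl h0
    have h3 : π s' = π (h0 : S2) := by
      rw [h2, hx _ (mem_map_of_mem π h0.2), mul_inv_cancel_right]
    rw [Matrix.SpecialLinearGroup.coe_mul, tauP_mul, ← h1]
    rcases pi_eq π hM h3 with h4 | h4
    · rw [h4]
    · have h5 : (s' : M2) = -((h0 : S2) : M2) := by rw [h4]; rfl
      rw [h5, neg_mul_neg]
  set g : S2 := (h0 : S2) * h0 with hgdef
  have hgE : (g : M2) ∈ E := (HE E).mul_mem h0.2 h0.2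
  have hone : tauP B σ (1 : M2) = 1 := by
    rw [tauP_apply, Matrix.map_one σ (map_zero σ) (map_one σ), mul_one, hBB']
  have hgk : ∀ k : ℕ, tauP B σ ((g : M2) ^ k) = (g : M2) ^ k := by
    intro k
    induction k with
    | zero => rw [pow_zero, hone]
    | succ k ih => rw [pow_succ, tauP_mul, ih, hg]
  -- `σ = 1`
  have hσ : σ = 1 := by
    by_contra hσ
    obtain ⟨K, hK, hKc⟩ := Cfsg.Agent.GH.L2Aut.exists_fixed_field σ
    have ho : 2 ≤ orderOf σ := by
      have h1 := Cfsg.Agent.GH.L2Aut.orderOf_pos' σ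
      have h2 : orderOf σ ≠ 1 := fun h => hσ (orderOf_eq_one_iff.1 h)
      omega
    have hKq : Nat.card K ^ 2 ≤ Fintype.card F := by
      rw [← Nat.card_eq_fintype_card, hKc]
      exact Nat.pow_le_pow_right Nat.card_pos ho
    set S : Finset ↥(HE E) := Finset.univ.filter fun s => s ∈ zpowers (h0 * h0) with hS
    set Kf : Finset F := Finset.univ.filter fun a => a ∈ K with hKf
    have hSc : S.card = orderOf (h0 * h0) := by
      rw [← Nat.card_zpowers, hS, Nat.card_eq_fintype_card, Fintype.card_subtype]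
    have hKfc : Kf.card = Nat.card K := by
      rw [hKf, Nat.card_eq_fintype_card, Fintype.card_subtype]
    have h1 := card_trace_le hcomm hun S Kf (by
      intro s hs
      rw [hS, Finset.mem_filter] at hs
      rw [hKf, Finset.mem_filter]
      refine ⟨Finset.mem_univ _, ?_⟩
      rw [hK]
      obtain ⟨k, rfl⟩ := mem_powers_iff_mem_zpowers.2 hs.2
      have h2 : (((h0 * h0) ^ k : ↥(HE E)) : S2) = g ^ k := rfl
      dsimp only
      rw [h2, Matrix.SpecialLinearGroup.coe_pow, ← trace_tauP B σ, hgk])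
    rw [hSc, hKfc] at h1
    have h2 : n ≤ 2 * orderOf (h0 * h0) := by
      apply Nat.le_of_dvd
      · have := orderOf_pos (h0 * h0)
        omega
      · apply orderOf_dvd_of_pow_eq_one
        rw [pow_mul, pow_two]
        exact pow_orderOf_eq_one _
    obtain ⟨m, hm⟩ : ∃ m, Fintype.card F = m + 63 := ⟨Fintype.card F - 63, by omega⟩
    rw [hm] at hKq hcard
    have h3 : m + 62 ≤ 4 * Nat.card K := by omega
    nlinarith
  subst hσ
  have htau : ∀ y : M2, tauP B 1 y = (B : M2) * y * ((B⁻¹ : GL (Fin 2) F) : M2) := by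
    intro y
    rw [tauP_apply]
    congr 2
  have hl' : ∀ s : S2, ∃ s' : S2, (s' : M2) = (B : M2) * s * ((B⁻¹ : GL (Fin 2) F) : M2) ∧ π s' = x * π s * x⁻¹ := by
    intro s
    obtain ⟨s', h1, h2⟩ := hl s
    exact ⟨s', by rw [h1, htau], h2⟩
  have hgB : (B : M2) * g = g * B := by
    rw [htau] at hg
    calc (B : M2) * g = (B : M2) * g * (((B⁻¹ : GL (Fin 2) F) : M2) * (B : M2)) := by rw [hBB, mul_one]
      _ = ((B : M2) * g * ((B⁻¹ : GL (Fin 2) F) : M2)) * B := by simp only [mul_assoc]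
      _ = g * B := by rw [hg]
  have hgns : ¬ Sc (g : M2) := by
    rintro ⟨c, hc⟩
    have h1 : c ^ 2 = 1 := by
      have := g.2
      rw [hc, Matrix.det_smul, Matrix.det_one, mul_one, Fintype.card_fin] at this
      exact this
    have h2 : g * g = 1 := by
      apply Subtype.ext
      change (g : M2) * g = 1
      rw [hc, smul_mul_assoc, one_mul, smul_smul, ← pow_two, h1, one_smul]
    have h3 : h0 ^ 4 = 1 := by
      apply Subtype.ext
      change (h0 : S2) ^ 4 = 1
      rw [← h2, hgdef, show 4 = 2 + 2 from rfl, pow_add, pow_two]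
    have h4 := orderOf_le_of_pow_eq_one (by norm_num) h3
    omega
  have hBE : (B : M2) ∈ E := mem_of_comm hgE hgns hgB
  obtain ⟨c, hBc⟩ := scalar_of_trivial hM (B := B ^ r) (by
    intro s
    obtain ⟨s', h1, h2⟩ := lift_pow hl' r s
    refine ⟨s', h1, ?_⟩
    rw [h2, hxr, one_mul, inv_one, mul_one])
  have hBc' : (B : M2) ^ r = c • (1 : M2) := by rw [← hBc, Units.val_pow_eq_pow_val]
  refine mem_of_isSquare hM hc hl' (isSquare_det hM hr hcomm hBE hT hBc' hrp h0.2 ?_)
  rw [Subgroup.orderOf_coe]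
  omega

theorem M_five_le {d : ℕ} (hd : 5 ≤ d) : 955514880 ≤ M d := by
  have h1 : M 5 = 955514880 := by decide
  rw [← h1]
  unfold M
  have h2 : Nat.factorial (5 - 1) ≤ Nat.factorial (d - 1) := Nat.factorial_le (by omega)
  refine Nat.mul_le_mul (Nat.factorial_le hd) ?_
  exact (Nat.pow_le_pow_left h2 5).trans (Nat.pow_le_pow_right (Nat.factorial_pos _) hd)

/-- **The torus case.** -/
theorem two_torus {C A₁ C₁ A₂ C₂ : Subgroup G} {d : ℕ} {π : S2 →* G} (h : Sit N A C A₁ C₁ A₂ C₂ r d)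
    (hr : ¬ r ∣ Fintype.card F)
    (hM : Model N (iSL 2 F) π) (E : Subalgebra F (Matrix (Fin 2) (Fin 2) F)) (hE : Inv (iSL 2 F) π A E) (h1 : E ≠ ⊥)
    (hcomm : ∀ x ∈ E, ∀ y ∈ E, x * y = y * x) : Nat.card A ≤ M d := by
  rcases Nat.lt_or_ge (Fintype.card F) 63 with hq | hq
  · refine le_trans ?_ (M_five_le h.five)
    have h2 := card_G_le hM h.locA.cent
    have h3 : Fintype.card F ^ 5 ≤ 62 ^ 5 := Nat.pow_le_pow_left (by omega) 5
    have h4 : Nat.card A ≤ Nat.card G := Nat.card_le_card_of_injective _ Subtype.val_injective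
    refine h4.trans (h2.trans (h3.trans (by norm_num)))
  exfalso
  have hrp := h.locA.prime
  obtain ⟨X, hX, hsX⟩ := exists_nonscalar h1
  have hT := map_isPGroup h.locA hM hE hcomm
  have hun := unip hM hrp hr hT
  have hcyc := cyclic_HE hcomm hun
  obtain ⟨h0, hh0⟩ := hcyc.exists_generator
  have hord : orderOf h0 = Nat.card ↥(HE E) := orderOf_eq_card_of_forall_mem_zpowers hh0
  have hcard := card_HE hcomm hX hsX (by omega)
  rw [← hord] at hcard
  have hTD : TD N A ((HE E).map π) := by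
    refine ⟨map_leA h.locA hM hE hcomm, map_le hM, ?_, conj_mem' hM hE, ?_⟩
    · exact isCyclic_of_surjective (π.subgroupMap (HE E)) (π.subgroupMap_surjective (HE E))
    · intro a ha haN haT
      rw [← hM.range] at haN
      obtain ⟨s, rfl⟩ := haN
      have hs : s ∉ HE E := fun hs => haT (mem_map_of_mem π hs)
      have hss : Ind (iSL 2 F) π (π s) (tauP (Matrix.SpecialLinearGroup.toGL s) 1) := by
        left
        refine ⟨tauP_mul _ _, fun t => ⟨s * t * s⁻¹, ?_, by rw [map_mul, map_mul, map_inv]⟩⟩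
        rw [mt_eq, mt_eq, tauP_apply, ← map_inv, Matrix.SpecialLinearGroup.coe_mul, Matrix.SpecialLinearGroup.coe_mul]
        rfl
      have hn : (s : M2) * X * ((s⁻¹ : S2) : M2) ∈ E := by
        have := hE (π s) ha _ hss X hX
        rw [tauP_apply, ← map_inv] at this
        exact this
      obtain ⟨h5, h6⟩ := out_aux hcomm hun hX hsX hs hn
      refine ⟨by rw [← map_mul, h6, pi_neg_one π hM], ?_⟩
      rintro _ ⟨e, he, rfl⟩
      rw [← map_inv, ← map_mul, ← map_mul, h5 e he, map_inv]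
  refine abs_false h hTD hT ⟨π h0, mem_map_of_mem π h0.2, ?_⟩ ?_
  · intro h4
    rw [← map_pow] at h4
    have h5 : h0 ^ 8 = 1 := by
      apply Subtype.ext
      change (h0 : S2) ^ 8 = 1
      rcases pi_eq_one π hM h4 with h6 | h6
      · rw [show 8 = 4 * 2 from rfl, pow_mul, h6, one_pow]
      · rw [show 8 = 4 * 2 from rfl, pow_mul, h6, neg_one_sq]
    have h6 := orderOf_le_of_pow_eq_one (by norm_num) h5
    omega
  · intro x _ hxr hxT
    exact hF_aux hM h.locA.cent hrp hr hq hcomm hX hsX hT hxr hxT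

end Grp

end Cfsg.Agent.H947.TW
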